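import Groth.Agent.L11.AffInvBun.Coord
import Groth.Prelude.Def_GLinSh
import Mathlib.AlgebraicGeometry.Morphisms.Flat
import Mathlib.RingTheory.PolynomialAlgebra

/-!
# The linearised pullback of an invertible module along an invariant morphism
-/

set_option autoImplicit false
set_option backward.isDefEq.respectTransparency false

noncomputable section

universe u

open CategoryTheory MonoidalCategory CartesianMonoidalCategory MonObj GrpObj AlgebraicGeometry Opposite
  TopologicalSpace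
open CategoryTheory.Limits (pullback pullback.fst pullback.snd pullback.lift pushout pushout.inl pushout.inr
  pushout.desc)
open Groth.L18.Frame (rs ro rs_rs rs_self rs_smul ro_ro ro_self IsFrame)

namespace Groth.L11.AffInv

/-- If `P` is the pushout of `A ⟶ B` and `A ⟶ C` and `C` is polynomial in `y` over `A`, then `P` is polynomial in
the image of `y` over `B`. -/
theorem bijective_eval₂_of_isPushout {A B C P : CommRingCat.{u}} {f : A ⟶ B} {g : A ⟶ C} {i : B ⟶ P} {j : C ⟶ P}
    (h : IsPushout f g i j) (y : C) (hy : Function.Bijective (Polynomial.eval₂RingHom g.hom y)) :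
    Function.Bijective (Polynomial.eval₂RingHom i.hom (j y)) := by
  let Q : CommRingCat.{u} := CommRingCat.of (Polynomial B)
  let E := RingEquiv.ofBijective _ hy
  let iq : B ⟶ Q := CommRingCat.ofHom Polynomial.C
  let jq : C ⟶ Q := CommRingCat.ofHom ((Polynomial.mapRingHom f.hom).comp E.symm.toRingHom)
  have hEC : ∀ r, E.symm (g r) = Polynomial.C r := fun r => E.injective (by
    rw [E.apply_symm_apply]; exact (Polynomial.eval₂_C _ _).symm)
  have hEX : E.symm y = Polynomial.X := E.injective (by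
    rw [E.apply_symm_apply]; exact (Polynomial.eval₂_X _ _).symm)
  have hw : f ≫ iq = g ≫ jq := CommRingCat.hom_ext (RingHom.ext fun r => by
    show Polynomial.C (f r) = (E.symm (g r)).map f.hom
    rw [hEC, Polynomial.map_C])
  let d : P ⟶ Q := h.desc iq jq hw
  have hdi : ∀ r, d (i r) = Polynomial.C r := fun r => ConcreteCategory.congr_hom (h.inl_desc iq jq hw) r
  have hdj : ∀ r, d (j r) = (E.symm r).map f.hom := fun r => ConcreteCategory.congr_hom (h.inr_desc iq jq hw) r
  let e : Q ⟶ P := CommRingCat.ofHom (Polynomial.eval₂RingHom i.hom (j y))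
  have hde : d ≫ e = 𝟙 P := by
    refine h.hom_ext ?_ ?_
    · refine CommRingCat.hom_ext (RingHom.ext fun r => ?_)
      show (d (i r)).eval₂ i.hom (j y) = i r
      rw [hdi, Polynomial.eval₂_C]
    · refine CommRingCat.hom_ext (RingHom.ext fun r => ?_)
      obtain ⟨p, rfl⟩ := E.surjective r
      show (d (j (E p))).eval₂ i.hom (j y) = j (E p)
      rw [hdj, E.symm_apply_apply, Polynomial.eval₂_map]
      show _ = j.hom (p.eval₂ g.hom y)
      rw [Polynomial.hom_eval₂]
      exact congrArg (fun ψ : A →+* P => p.eval₂ ψ (j y)) (congrArg CommRingCat.Hom.hom h.w)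
  refine ⟨?_, fun z => ⟨d z, ConcreteCategory.congr_hom hde z⟩⟩
  refine Function.LeftInverse.injective (g := d) fun p => ?_
  show d (p.eval₂ i.hom (j y)) = p
  change d.hom (p.eval₂ i.hom (j y)) = p
  rw [Polynomial.hom_eval₂]
  have h1 : d.hom.comp i.hom = Polynomial.C := RingHom.ext hdi
  have h2 : d.hom (j y) = Polynomial.X := by rw [show d.hom (j y) = _ from hdj y, hEX, Polynomial.map_X]
  rw [h1, h2, Polynomial.eval₂_C_X]

variable {S : Scheme.{u}} {G X Y : Over S} [GrpObj G]
  (a : AlgGrp.Action G X) (φ : X ⟶ Y) (M : Y.left.Modules) [Coh.IsQCoh M]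

/-- The total space of `φ^* M`. -/
def tspace : Over S := Over.mk (pullback.fst φ.left (proj M) ≫ X.hom)

/-- Its projection. -/
def toX : tspace φ M ⟶ X := Over.homMk (pullback.fst φ.left (proj M))

/-- The map to the bundle on `Y`. -/
def toTot : (tspace φ M).left ⟶ tot M := pullback.snd φ.left (proj M)

theorem isPullback_left : IsPullback (toX φ M).left (toTot φ M) φ.left (proj M) := IsPullback.of_hasPullback _ _

theorem toX_comp : (toX φ M).left ≫ φ.left = toTot φ M ≫ proj M := (isPullback_left φ M).w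

instance : IsAffineHom (toX φ M).left :=
  MorphismProperty.pullback_fst (P := @IsAffineHom) φ.left (proj M) (inferInstanceAs (IsAffineHom (Groth.L18.SymSheaf.symAlg M).π))

variable (hφ : GIT.IsInvariant a φ)

include hφ in
theorem act_comp_aux :
    ((G ◁ toX φ M) ≫ a.act).left ≫ φ.left = ((snd G (tspace φ M)).left ≫ toTot φ M) ≫ proj M := by
  rw [Category.assoc, ← toX_comp, ← Over.comp_left, ← Over.comp_left, ← Over.comp_left]
  rw [Category.assoc, hφ, whiskerLeft_snd_assoc]

/-- The lifted action, on the first factor. -/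
def liftAct : G ⊗ tspace φ M ⟶ tspace φ M :=
  Over.homMk (pullback.lift ((G ◁ toX φ M) ≫ a.act).left ((snd G (tspace φ M)).left ≫ toTot φ M)
    (act_comp_aux a φ M hφ)) (by
    show pullback.lift _ _ (act_comp_aux a φ M hφ) ≫ pullback.fst φ.left (proj M) ≫ X.hom = _
    rw [CategoryTheory.Limits.pullback.lift_fst_assoc]
    exact Over.w ((G ◁ toX φ M) ≫ a.act))

theorem liftAct_toX : liftAct a φ M hφ ≫ toX φ M = (G ◁ toX φ M) ≫ a.act :=
  Over.OverMorphism.ext (CategoryTheory.Limits.pullback.lift_fst _ _ _)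

theorem liftAct_toTot : (liftAct a φ M hφ).left ≫ toTot φ M = (snd G (tspace φ M)).left ≫ toTot φ M :=
  CategoryTheory.Limits.pullback.lift_snd _ _ _

theorem hom_ext_tspace {Z : Over S} {f g : Z ⟶ tspace φ M} (h1 : f ≫ toX φ M = g ≫ toX φ M)
    (h2 : f.left ≫ toTot φ M = g.left ≫ toTot φ M) : f = g := by
  refine Over.OverMorphism.ext ((isPullback_left φ M).hom_ext ?_ h2)
  exact congrArg CommaMorphism.left h1

/-- The action on the total space. -/
def liftAction : AlgGrp.Action G (tspace φ M) where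
  act := liftAct a φ M hφ
  one_act := by
    refine hom_ext_tspace φ M ?_ ?_
    · rw [Category.assoc, liftAct_toX, ← whisker_exchange_assoc, a.one_act, leftUnitor_naturality]
    · rw [Over.comp_left, Category.assoc, liftAct_toTot, ← Category.assoc, ← Over.comp_left, whiskerRight_snd]
      rfl
  mul_act := by
    refine hom_ext_tspace φ M ?_ ?_
    · rw [Category.assoc, liftAct_toX, ← whisker_exchange_assoc, a.mul_act]
      simp only [Category.assoc, liftAct_toX, ← whiskerLeft_comp_assoc]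
      rw [whiskerLeft_comp_assoc, associator_naturality_right_assoc]
    · simp only [Over.comp_left, Category.assoc, liftAct_toTot]
      simp only [← Category.assoc, ← Over.comp_left, whiskerRight_snd, whiskerLeft_snd, associator_hom_snd_snd]
      simp only [Category.assoc, Over.comp_left, liftAct_toTot]
      simp only [← Category.assoc, ← Over.comp_left, whiskerRight_snd, whiskerLeft_snd, associator_hom_snd_snd]
      rw [Category.assoc, associator_hom_snd_snd]

/-- The coordinate of a section over `U`, on opens over it. -/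
def coordX {U : Y.left.Opens} (e : Γ(M, U)) (W : X.left.Opens) (h : W ≤ φ.left ⁻¹ᵁ U) :
    Γ((tspace φ M).left, (toX φ M).left ⁻¹ᵁ W) :=
  (toTot φ M).appLE (proj M ⁻¹ᵁ U) ((toX φ M).left ⁻¹ᵁ W) (by
    rw [← Scheme.Hom.comp_preimage, ← toX_comp, Scheme.Hom.comp_preimage]
    exact (toX φ M).left.preimage_mono h) (coord M e)

theorem coordX_res {U : Y.left.Opens} (e : Γ(M, U)) {W W' : X.left.Opens} (h : W ≤ φ.left ⁻¹ᵁ U) (h' : W' ≤ W) :
    GLinSh.res (toX φ M) h' (coordX φ M e W h) = coordX φ M e W' (h'.trans h) := by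
  show ((toTot φ M).appLE _ _ _ ≫ (tspace φ M).left.presheaf.map _) (coord M e) = _
  rw [Scheme.Hom.appLE_map]
  rfl

theorem coordX_rs {U U' : Y.left.Opens} (hU : U' ≤ U) (e : Γ(M, U)) (W : X.left.Opens)
    (h : W ≤ φ.left ⁻¹ᵁ U') :
    coordX φ M (rs M hU e) W h = coordX φ M e W (h.trans (φ.left.preimage_mono hU)) := by
  unfold coordX
  rw [coord_rs]
  show ((tot M).presheaf.map _ ≫ (toTot φ M).appLE _ _ _) (coord M e) = _
  rw [Scheme.Hom.map_appLE]

theorem coordX_smul {U : Y.left.Opens} (r : Γ(Y.left, U)) (e : Γ(M, U)) (W : X.left.Opens)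
    (h : W ≤ φ.left ⁻¹ᵁ U) :
    coordX φ M (r • e) W h = (toX φ M).left.app W (φ.left.appLE U W h r) * coordX φ M e W h := by
  unfold coordX
  rw [coord_smul, map_mul]
  congr 1
  show ((proj M).app U ≫ (toTot φ M).appLE _ _ _) r = (φ.left.appLE U W h ≫ (toX φ M).left.app W) r
  rw [Scheme.Hom.app_eq_appLE, Scheme.Hom.app_eq_appLE, Scheme.Hom.appLE_comp_appLE, Scheme.Hom.appLE_comp_appLE]
  simp only [toX_comp]

/-- The admissible coordinates. -/
def chart (W : X.left.Opens) : Set Γ((tspace φ M).left, (toX φ M).left ⁻¹ᵁ W) :=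
  {y | ∃ (U : Y.left.Opens) (e : Γ(M, U)) (h : W ≤ φ.left ⁻¹ᵁ U),
    IsAffineOpen U ∧ IsFrame M U e ∧ y = coordX φ M e W h}

theorem isFibreCoord {U : Y.left.Opens} (hU : IsAffineOpen U) {e : Γ(M, U)} (he : IsFrame M U e)
    (W : X.left.Opens) (h : W ≤ φ.left ⁻¹ᵁ U) :
    GLinSh.IsFibreCoord (toX φ M) W (coordX φ M e W h) := by
  intro W' hW' hle
  rw [coordX_res]
  have hWU : W' ≤ φ.left ⁻¹ᵁ U := hle.trans h
  have hUY : (toX φ M).left ⁻¹ᵁ W' = (toX φ M).left ⁻¹ᵁ W' ⊓ toTot φ M ⁻¹ᵁ (proj M ⁻¹ᵁ U) := by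
    refine le_antisymm (le_inf le_rfl ?_) inf_le_left
    rw [← Scheme.Hom.comp_preimage, ← toX_comp, Scheme.Hom.comp_preimage]
    exact (toX φ M).left.preimage_mono hWU
  have hP := (isIso_pushoutSection_iff (isPullback_left φ M) (le_refl (proj M ⁻¹ᵁ U)) hWU hUY).1
    (isIso_pushoutSection_of_isAffineOpen (isPullback_left φ M) (le_refl (proj M ⁻¹ᵁ U)) hWU hUY hU
      (hU.preimage _) hW')
  have := bijective_eval₂_of_isPushout hP (coord M e) (by
    rw [← Scheme.Hom.app_eq_appLE]; exact coord_bijective M hU he)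
  rw [← Scheme.Hom.app_eq_appLE] at this
  exact this

/-- The atlas. -/
def atlas (hM : PicF.IsInvertible M) : GLinSh.LinAtlas (toX φ M) where
  affine := inferInstance
  chart := chart φ M
  cover x := by
    obtain ⟨U, hU, e, hx, -, he⟩ := Groth.L18.SymInv.exists_affine_frame hM (φ.left x) ⊤ trivial
    exact ⟨φ.left ⁻¹ᵁ U, hx, _, U, e, le_rfl, hU, he, rfl⟩
  coord W y := by
    rintro ⟨U, e, h, hU, he, rfl⟩
    exact isFibreCoord φ M hU he W h
  linear W W' y y' := by
    rintro ⟨U, e, h, hU, he, rfl⟩ ⟨U', e', h', hU', he', rfl⟩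
    obtain ⟨r, hr⟩ := he.exists_coeff (inf_le_left : U ⊓ U' ≤ U) (rs M inf_le_right e')
    have hu : IsUnit r := Groth.L18.Frame.isUnit_of_isFrame (he.mono inf_le_left) (by
      rw [hr]; exact he'.mono _)
    have hWW : W ⊓ W' ≤ φ.left ⁻¹ᵁ (U ⊓ U') := by
      rw [Scheme.Hom.preimage_inf]; exact inf_le_inf h h'
    refine ⟨φ.left.appLE (U ⊓ U') (W ⊓ W') hWW r, hu.map (φ.left.appLE (U ⊓ U') (W ⊓ W') hWW).hom, ?_⟩
    rw [coordX_res, coordX_res, ← coordX_rs φ M (inf_le_right : U ⊓ U' ≤ U') e' (W ⊓ W') hWW,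
      ← coordX_rs φ M (inf_le_left : U ⊓ U' ≤ U) e (W ⊓ W') hWW, ← coordX_smul, hr]

/-- The linearised bundle. -/
def bundle (hM : PicF.IsInvertible M) : GLinSh.LinBun G a where
  V := tspace φ M
  π := toX φ M
  atlas := atlas φ M hM
  lift := liftAction a φ M hφ
  lift_π := liftAct_toX a φ M hφ
  lift_linear := by
    rintro W W' y y' ⟨U, e, h, hU, he, rfl⟩ ⟨U', e', h', hU', he', rfl⟩
    obtain ⟨r, hr⟩ := he.exists_coeff (inf_le_left : U ⊓ U' ≤ U) (rs M inf_le_right e')
    have hO : a.act.left ⁻¹ᵁ W' ⊓ (snd G X).left ⁻¹ᵁ W ≤ ((snd G X).left ≫ φ.left) ⁻¹ᵁ (U ⊓ U') := by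
      rw [Scheme.Hom.preimage_inf]
      refine le_inf (inf_le_right.trans ((snd G X).left.preimage_mono h)) ?_
      rw [← hφ.left]
      exact inf_le_left.trans (a.act.left.preimage_mono h')
    refine ⟨((snd G X).left ≫ φ.left).appLE (U ⊓ U') _ hO r, ?_⟩
    set L := GLinSh.liftOpen a (toX φ M) W W'
    have hsndφ : (snd G (tspace φ M)).left ≫ toTot φ M ≫ proj M =
        (G ◁ toX φ M).left ≫ (snd G X).left ≫ φ.left := by
      rw [← toX_comp, ← Category.assoc, ← Category.assoc, ← Over.comp_left, ← Over.comp_left, ← Over.comp_left,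
        ← Over.comp_left, whiskerLeft_snd]
    have hL : L ≤ ((snd G (tspace φ M)).left ≫ toTot φ M) ⁻¹ᵁ (proj M ⁻¹ᵁ (U ⊓ U')) := by
      rw [← Scheme.Hom.comp_preimage, Category.assoc, hsndφ, Scheme.Hom.comp_preimage]
      exact (GLinSh.liftOpen_le_base a (toX φ M)).trans ((G ◁ toX φ M).left.preimage_mono hO)
    -- both coordinates are pulled back along `G × V ⟶ V ⟶ W`
    have key : ∀ (Φ : G ⊗ tspace φ M ⟶ tspace φ M),
        Φ.left ≫ toTot φ M = (snd G (tspace φ M)).left ≫ toTot φ M →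
        ∀ {U₁ : Y.left.Opens} (e₁ : Γ(M, U₁)) (i : U ⊓ U' ≤ U₁) {W₁ : X.left.Opens} (h₁ : W₁ ≤ φ.left ⁻¹ᵁ U₁)
          (hh : L ≤ Φ.left ⁻¹ᵁ ((toX φ M).left ⁻¹ᵁ W₁)),
        Φ.left.appLE ((toX φ M).left ⁻¹ᵁ W₁) L hh (coordX φ M e₁ W₁ h₁) =
          ((snd G (tspace φ M)).left ≫ toTot φ M).appLE (proj M ⁻¹ᵁ (U ⊓ U')) L hL (coord M (rs M i e₁)) := by
      intro Φ hΦ U₁ e₁ i W₁ h₁ hh
      rw [coord_rs]
      show ((toTot φ M).appLE _ _ _ ≫ Φ.left.appLE _ L hh) (coord M e₁) =
        ((tot M).presheaf.map _ ≫ Scheme.Hom.appLE _ _ L hL) (coord M e₁)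
      rw [Scheme.Hom.appLE_comp_appLE, Scheme.Hom.map_appLE]
      simp only [hΦ]
    refine (key _ (liftAct_toTot a φ M hφ) e' inf_le_right h' _).trans ?_
    refine Eq.trans ?_ (congrArg (_ * ·) (key (snd G (tspace φ M)) rfl e inf_le_left h _).symm)
    rw [← hr, coord_smul, map_mul]
    congr 1
    show ((proj M).app (U ⊓ U') ≫ Scheme.Hom.appLE _ _ L hL) r =
      (((snd G X).left ≫ φ.left).appLE _ _ hO ≫ (G ◁ toX φ M).left.appLE _ L _) r
    rw [Scheme.Hom.app_eq_appLE, Scheme.Hom.appLE_comp_appLE, Scheme.Hom.appLE_comp_appLE]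
    simp only [Category.assoc, hsndφ]

end Groth.L11.AffInv
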