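import Groth.Agent.L18.LineBundleNormal
import Groth.Agent.L18.Ample
import Groth.Agent.L21.Extend.Semilocal
import Groth.Prelude.Def_CohB1

/-!
# The line bundle of an invertible module: coordinates, and functions from sections of powers
-/

set_option autoImplicit false
set_option backward.isDefEq.respectTransparency false

noncomputable section

universe u

open CategoryTheory CategoryTheory.Limits AlgebraicGeometry TopologicalSpace Opposite
open Groth.L18.Frame (rs ro rs_rs rs_self rs_smul ro_ro ro_self IsFrame)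

namespace Groth.L11.AffInv

variable {Y : Scheme.{u}} (M : Y.Modules)

/-- The `n`-fold tensor power of a section. -/
def powSec {U : Y.Opens} (e : Γ(M, U)) : ∀ n, Γ(CohB1.tensorPow M n, U)
  | 0 => (1 : Γ(Y, U))
  | n + 1 => Groth.L18.GenLoc.tens (CohB1.tensorPow M n) M U (powSec e n) e

theorem powSec_rs {U V : Y.Opens} (h : V ≤ U) (e : Γ(M, U)) :
    ∀ n, rs (CohB1.tensorPow M n) h (powSec M e n) = powSec M (rs M h e) n
  | 0 => map_one (Y.presheaf.map (homOfLE h).op).hom
  | n + 1 => by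
    show rs (CohB1.tensorMod (CohB1.tensorPow M n) M) h (Groth.L18.GenLoc.tens _ M U _ _) = _
    rw [Groth.L18.GenLoc.tens_rs, powSec_rs h e n]
    rfl

theorem powSec_smul {U : Y.Opens} (r : Γ(Y, U)) (e : Γ(M, U)) :
    ∀ n, powSec M (r • e) n = r ^ n • powSec M e n
  | 0 => by rw [pow_zero, one_smul]; rfl
  | n + 1 => by
    show Groth.L18.GenLoc.tens _ M U (powSec M (r • e) n) (r • e) = r ^ (n + 1) • Groth.L18.GenLoc.tens _ M U _ _
    rw [powSec_smul r e n, Groth.L18.GenLoc.tens_smul_left, Groth.L18.GenLoc.tens_smul_right, ← mul_smul, pow_succ]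

theorem isFrame_powSec {U : Y.Opens} {e : Γ(M, U)} (he : IsFrame M U e) :
    ∀ n, IsFrame (CohB1.tensorPow M n) U (powSec M e n)
  | 0 => fun V h => by
    have h1 : rs (CohB1.tensorPow M 0) h (powSec M e 0) = (1 : Γ(Y, V)) :=
      map_one (Y.presheaf.map (homOfLE h).op).hom
    rw [h1]
    convert Function.bijective_id using 1
    funext a
    exact mul_one a
  | n + 1 => Groth.L18.GenLoc.isFrame_tens (isFrame_powSec he n) he

variable [Coh.IsQCoh M]

/-- The total space. -/
abbrev tot : Scheme.{u} := (Groth.L18.SymSheaf.symAlg M).spec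

/-- The projection. -/
abbrev proj : tot M ⟶ Y := (Groth.L18.SymSheaf.symAlg M).π

/-- The function on the total space of a section of `M`. -/
def coord {U : Y.Opens} (e : Γ(M, U)) : Γ(tot M, proj M ⁻¹ᵁ U) :=
  ((Groth.L18.RelSpecAlg.gammaIso (Groth.L18.SymSheaf.symAlg M)).inv.app (op U)).hom
    ((Groth.L18.SymSheaf.j M).app U e)

theorem gammaIso_str {U : Y.Opens} (r : Γ(Y, U)) :
    ((Groth.L18.RelSpecAlg.gammaIso (Groth.L18.SymSheaf.symAlg M)).inv.app (op U)).hom
      (((Groth.L18.SymSheaf.symAlg M).str.app (op U)).hom r) = (proj M).app U r := by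
  have h : (Groth.L18.SymSheaf.symAlg M).str ≫
      (Groth.L18.RelSpecAlg.gammaIso (Groth.L18.SymSheaf.symAlg M)).inv = (proj M).c :=
    ((Groth.L18.RelSpecAlg.gammaIso _).comp_inv_eq).mpr (Groth.L18.SymSheaf.symAlg M).π_c_gammaMap.symm
  exact ConcreteCategory.congr_hom (NatTrans.congr_app h (op U)) r

theorem coord_rs {U V : Y.Opens} (h : V ≤ U) (e : Γ(M, U)) :
    coord M (rs M h e) = ro ((proj M).preimage_mono h) (coord M e) := by
  unfold coord
  have h1 : ((Groth.L18.SymSheaf.j M).app V (rs M h e)) =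
      ((Groth.L18.SymSheaf.symAlg M).presheaf.map (homOfLE h).op).hom ((Groth.L18.SymSheaf.j M).app U e) :=
    congr($((Groth.L18.SymSheaf.j M).mapPresheaf.naturality (homOfLE h).op) e)
  rw [h1]
  exact ConcreteCategory.congr_hom
    ((Groth.L18.RelSpecAlg.gammaIso (Groth.L18.SymSheaf.symAlg M)).inv.naturality (homOfLE h).op) _

theorem coord_smul {U : Y.Opens} (r : Γ(Y, U)) (e : Γ(M, U)) :
    coord M (r • e) = (proj M).app U r * coord M e := by
  unfold coord
  have h1 : (Groth.L18.SymSheaf.j M).app U (r • e) = r • (Groth.L18.SymSheaf.j M).app U e :=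
    Scheme.Modules.Hom.app_smul _ r e
  rw [h1, Groth.L18.SymSheaf.smul_toModule, ← gammaIso_str]
  exact map_mul ((Groth.L18.RelSpecAlg.gammaIso (Groth.L18.SymSheaf.symAlg M)).inv.app (op U)).hom _ _

/-- Over an affine open with a frame the functions are polynomials in the coordinate. -/
theorem coord_bijective {U : Y.Opens} (hU : IsAffineOpen U) {e : Γ(M, U)} (he : IsFrame M U e) :
    Function.Bijective (Polynomial.eval₂RingHom ((proj M).app U).hom (coord M e)) := by
  let b : Module.Basis PUnit.{u + 1} Γ(Y, U) Γ(M, U) := (Module.Basis.singleton PUnit Γ(Y, U)).map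
    (LinearEquiv.ofBijective ((LinearMap.id : Γ(Y, U) →ₗ[Γ(Y, U)] Γ(Y, U)).smulRight e)
      (Groth.L18.SymInv.bijective_smul he))
  let E : Polynomial Γ(Y, U) ≃+* Γ(tot M, proj M ⁻¹ᵁ U) :=
    ((MvPolynomial.pUnitAlgEquiv Γ(Y, U)).toRingEquiv.symm.trans
      (SymmetricAlgebra.equivMvPolynomial b).toRingEquiv.symm).trans
      ((Groth.L18.SymSheaf.secEquiv M U hU).symm.trans
        (asIso ((Groth.L18.RelSpecAlg.gammaIso (Groth.L18.SymSheaf.symAlg M)).inv.app (op U))).commRingCatIsoToRingEquiv)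
  suffices h : Polynomial.eval₂RingHom ((proj M).app U).hom (coord M e) = E.toRingHom by
    rw [h]; exact E.bijective
  refine Polynomial.ringHom_ext (fun r => ?_) ?_
  · rw [Polynomial.coe_eval₂RingHom, Polynomial.eval₂_C]
    have e1 : (MvPolynomial.pUnitAlgEquiv Γ(Y, U)).symm (Polynomial.C r) = MvPolynomial.C r :=
      (AlgEquiv.symm_apply_eq _).2 (by simp)
    have e2 : (SymmetricAlgebra.equivMvPolynomial b).symm (MvPolynomial.C r) =
        algebraMap _ (Groth.L18.SymSheaf.Sym M U) r := (SymmetricAlgebra.equivMvPolynomial b).symm.commutes r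
    have e3 : (Groth.L18.SymSheaf.secEquiv M U hU).symm (algebraMap _ (Groth.L18.SymSheaf.Sym M U) r) =
        ((Groth.L18.SymSheaf.symAlg M).str.app (op U)).hom r :=
      (RingEquiv.symm_apply_eq _).2 (Groth.L18.SymSheaf.secEquiv_str M U hU r).symm
    show _ = ((Groth.L18.RelSpecAlg.gammaIso (Groth.L18.SymSheaf.symAlg M)).inv.app (op U)).hom
      ((Groth.L18.SymSheaf.secEquiv M U hU).symm ((SymmetricAlgebra.equivMvPolynomial b).symm
        ((MvPolynomial.pUnitAlgEquiv Γ(Y, U)).symm (Polynomial.C r))))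
    rw [e1, e2, e3, gammaIso_str]
  · rw [Polynomial.coe_eval₂RingHom, Polynomial.eval₂_X]
    have e1 : (MvPolynomial.pUnitAlgEquiv Γ(Y, U)).symm Polynomial.X = MvPolynomial.X PUnit.unit :=
      (AlgEquiv.symm_apply_eq _).2 (by simp)
    have hb : b PUnit.unit = e := by simp [b]
    have e2 : (SymmetricAlgebra.equivMvPolynomial b).symm (MvPolynomial.X PUnit.unit) =
        SymmetricAlgebra.ι _ Γ(M, U) e := by
      rw [AlgEquiv.symm_apply_eq, ← hb, SymmetricAlgebra.equivMvPolynomial_ι_apply]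
    have e3 : (Groth.L18.SymSheaf.secEquiv M U hU).symm (SymmetricAlgebra.ι _ Γ(M, U) e) =
        (Groth.L18.SymSheaf.j M).app U e :=
      (RingEquiv.symm_apply_eq _).2 (Groth.L18.SymSheaf.secEquiv_j M U hU e).symm
    show _ = ((Groth.L18.RelSpecAlg.gammaIso (Groth.L18.SymSheaf.symAlg M)).inv.app (op U)).hom
      ((Groth.L18.SymSheaf.secEquiv M U hU).symm ((SymmetricAlgebra.equivMvPolynomial b).symm
        ((MvPolynomial.pUnitAlgEquiv Γ(Y, U)).symm Polynomial.X)))
    rw [e1, e2, e3]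
    rfl

/-- A section of a power of `M` gives a function on the total space. -/
theorem exists_fun (hM : PicF.IsInvertible M) {m : ℕ} (σ : Γ(CohB1.tensorPow M m, ⊤)) :
    ∃ F : Γ(tot M, ⊤), ∀ (U : Y.Opens) (e : Γ(M, U)), IsFrame M U e → ∀ c : Γ(Y, U),
      c • powSec M e m = rs (CohB1.tensorPow M m) le_top σ →
        ro le_top F = (proj M).app U c * coord M e ^ m := by
  let ι := {p : Σ U : Y.Opens, Γ(M, U) // IsFrame M p.1 p.2}
  have hco : ∀ i : ι, ∃ c : Γ(Y, i.1.1), c • powSec M i.1.2 m = rs (CohB1.tensorPow M m) le_top σ := fun i => by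
    obtain ⟨c, hc⟩ := (isFrame_powSec M i.2 m).exists_coeff le_rfl (rs (CohB1.tensorPow M m) le_top σ)
    exact ⟨c, by rw [rs_self] at hc; exact hc⟩
  choose c hc using hco
  -- the key compatibility
  have key : ∀ (U U' : Y.Opens) (e : Γ(M, U)) (_ : IsFrame M U e) (e' : Γ(M, U'))
      (a : Γ(Y, U)) (a' : Γ(Y, U')), a • powSec M e m = rs (CohB1.tensorPow M m) le_top σ →
      a' • powSec M e' m = rs (CohB1.tensorPow M m) le_top σ →
      ro ((proj M).preimage_mono (inf_le_left : U ⊓ U' ≤ U)) ((proj M).app U a * coord M e ^ m) =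
        ro ((proj M).preimage_mono (inf_le_right : U ⊓ U' ≤ U')) ((proj M).app U' a' * coord M e' ^ m) := by
    intro U U' e he e' a a' ha ha'
    obtain ⟨r, hr⟩ := he.exists_coeff (inf_le_left : U ⊓ U' ≤ U) (rs M inf_le_right e')
    have hn : ∀ {A B : Y.Opens} (h : B ≤ A) (b : Γ(Y, A)),
        ro ((proj M).preimage_mono h) ((proj M).app A b) = (proj M).app B (ro h b) := fun h b =>
      (ConcreteCategory.congr_hom ((proj M).naturality (homOfLE h).op) b).symm
    have h2 : ro (inf_le_left : U ⊓ U' ≤ U) a = ro (inf_le_right : U ⊓ U' ≤ U') a' * r ^ m := by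
      refine (isFrame_powSec M he m).inj inf_le_left ?_
      have e1 := congrArg (rs (CohB1.tensorPow M m) (inf_le_left : U ⊓ U' ≤ U)) ha
      have e2 := congrArg (rs (CohB1.tensorPow M m) (inf_le_right : U ⊓ U' ≤ U')) ha'
      rw [rs_smul, rs_rs] at e1 e2
      rw [powSec_rs, ← hr, powSec_smul, ← powSec_rs, ← mul_smul] at e2
      exact e1.trans e2.symm
    show ((tot M).presheaf.map _).hom _ = ((tot M).presheaf.map _).hom _
    rw [map_mul, map_mul, map_pow, map_pow]
    show ro _ ((proj M).app U a) * ro _ (coord M e) ^ m = ro _ ((proj M).app U' a') * ro _ (coord M e') ^ m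
    rw [hn, hn, ← coord_rs, ← coord_rs, h2, ← hr, coord_smul, mul_pow, map_mul, map_pow, mul_assoc]
    all_goals first | exact inf_le_left | exact inf_le_right
  have hcov : (⊤ : (tot M).Opens) ≤ ⨆ i : ι, proj M ⁻¹ᵁ i.1.1 := fun w _ => by
    obtain ⟨U, e, hx, he⟩ := Groth.L18.Frame.exists_frame hM (proj M w)
    exact Opens.mem_iSup.2 ⟨⟨⟨U, e⟩, he⟩, hx⟩
  obtain ⟨F, hF, -⟩ := (tot M).sheaf.existsUnique_gluing' (fun i : ι => proj M ⁻¹ᵁ i.1.1) ⊤
    (fun i => homOfLE le_top) hcov (fun i => (proj M).app i.1.1 (c i) * coord M i.1.2 ^ m)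
    (fun i j => key _ _ _ i.2 _ _ _ (hc i) (hc j))
  refine ⟨F, fun U e he a ha => ?_⟩
  have h1 : a = c ⟨⟨U, e⟩, he⟩ := (isFrame_powSec M he m).inj le_rfl (by
    rw [rs_self]; exact ha.trans (hc ⟨⟨U, e⟩, he⟩).symm)
  rw [h1]
  exact hF ⟨⟨U, e⟩, he⟩

/-- Where such a function does not vanish, the section generates. -/
theorem proj_mem_genLocus (hM : PicF.IsInvertible M) {m : ℕ}
    (s : Coh.structureModule Y ⟶ CohB1.tensorPow M m) {F : Γ(tot M, ⊤)}
    (hF : ∀ (U : Y.Opens) (e : Γ(M, U)), IsFrame M U e → ∀ c : Γ(Y, U),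
      c • powSec M e m = rs (CohB1.tensorPow M m) le_top (Groth.L18.GenLoc.secOf s) →
        ro le_top F = (proj M).app U c * coord M e ^ m)
    {w : tot M} (hw : w ∈ (tot M).basicOpen F) : proj M w ∈ CohB1.genLocus _ s := by
  obtain ⟨U, e, hx, he⟩ := Groth.L18.Frame.exists_frame hM (proj M w)
  obtain ⟨c, hc⟩ := (isFrame_powSec M he m).exists_coeff le_rfl
    (rs (CohB1.tensorPow M m) le_top (Groth.L18.GenLoc.secOf s))
  rw [rs_self] at hc
  have h1 : w ∈ (tot M).basicOpen (ro (le_top : proj M ⁻¹ᵁ U ≤ ⊤) F) := by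
    rw [Scheme.basicOpen_res]; exact ⟨hx, hw⟩
  rw [hF U e he c hc, Scheme.basicOpen_mul] at h1
  have h2 : proj M w ∈ Y.basicOpen c := by
    have := h1.1
    rwa [← Scheme.preimage_basicOpen] at this
  rw [← Groth.L18.GenLoc.genLocus_inf_eq s (isFrame_powSec M he m) hc] at h2
  exact h2.1

end Groth.L11.AffInv
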