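import Groth.Agent.L11.AffInvBun.Bundle
import Mathlib.AlgebraicGeometry.ResidueField

/-!
# Semi-stable and stable points of the pullback of an ample module
-/

set_option autoImplicit false
set_option backward.isDefEq.respectTransparency false

noncomputable section

universe u

open CategoryTheory MonoidalCategory CartesianMonoidalCategory MonObj GrpObj AlgebraicGeometry Opposite
  TopologicalSpace
open CategoryTheory.Limits (pullback pullback.fst pullback.snd pullback.lift equalizer equalizer.ι)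
open Groth.L18.Frame (rs ro rs_rs rs_self rs_smul ro_ro ro_self IsFrame)

namespace Groth.L11.AffInv

variable {S : Scheme.{u}} {G X Y : Over S} [GrpObj G]
  (a : AlgGrp.Action G X) (φ : X ⟶ Y) (M : Y.left.Modules) [Coh.IsQCoh M]
  (hφ : GIT.IsInvariant a φ)

/-- The function on the total space of a function on the bundle over `Y`. -/
def funX (F : Γ(tot M, ⊤)) : Γ((tspace φ M).left, ⊤) := (toTot φ M).appTop F

theorem isInvFn_funX (F : Γ(tot M, ⊤)) : GLinSh.IsInvFn (liftAction a φ M hφ) (funX φ M F) := by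
  show ((toTot φ M).appTop ≫ (liftAct a φ M hφ).left.appTop) F =
    ((toTot φ M).appTop ≫ (snd G (tspace φ M)).left.appTop) F
  simp only [← Scheme.Hom.comp_appTop, liftAct_toTot a φ M hφ]

variable {m : ℕ} {σ : Γ(CohB1.tensorPow M m, ⊤)} {F : Γ(tot M, ⊤)}
  (hF : ∀ (U : Y.left.Opens) (e : Γ(M, U)), IsFrame M U e → ∀ c : Γ(Y.left, U),
    c • powSec M e m = rs (CohB1.tensorPow M m) le_top σ →
      ro le_top F = (proj M).app U c * coord M e ^ m)

include hF in
theorem resTop_funX {U : Y.left.Opens} {e : Γ(M, U)} (he : IsFrame M U e) {c : Γ(Y.left, U)}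
    (hc : c • powSec M e m = rs (CohB1.tensorPow M m) le_top σ) (W : X.left.Opens) (h : W ≤ φ.left ⁻¹ᵁ U) :
    GLinSh.resTop (toX φ M) W (funX φ M F) =
      (toX φ M).left.app W (φ.left.appLE U W h c) * coordX φ M e W h ^ m := by
  have hW : (toX φ M).left ⁻¹ᵁ W ≤ toTot φ M ⁻¹ᵁ (proj M ⁻¹ᵁ U) := by
    rw [← Scheme.Hom.comp_preimage, ← toX_comp, Scheme.Hom.comp_preimage]
    exact (toX φ M).left.preimage_mono h
  have h1 : GLinSh.resTop (toX φ M) W (funX φ M F) =
      (toTot φ M).appLE (proj M ⁻¹ᵁ U) _ hW (ro le_top F) := by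
    show ((toTot φ M).appTop ≫ (tspace φ M).left.presheaf.map _) F =
      ((tot M).presheaf.map _ ≫ (toTot φ M).appLE _ _ hW) F
    rw [Scheme.Hom.map_appLE, Scheme.Hom.appTop, Scheme.Hom.app_eq_appLE, Scheme.Hom.appLE_map]
  rw [h1, hF U e he c hc, map_mul, map_pow]
  congr 1
  show ((proj M).app U ≫ (toTot φ M).appLE _ _ _) c = (φ.left.appLE U W h ≫ (toX φ M).left.app W) c
  rw [Scheme.Hom.app_eq_appLE, Scheme.Hom.app_eq_appLE, Scheme.Hom.appLE_comp_appLE, Scheme.Hom.appLE_comp_appLE]
  simp only [toX_comp]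

include hF in
theorem hasWeight_funX : GLinSh.HasWeight (chart φ M) m (funX φ M F) := by
  rintro W y ⟨U, e, h, hU, he, rfl⟩
  obtain ⟨c, hc⟩ := (isFrame_powSec M he m).exists_coeff le_rfl (rs (CohB1.tensorPow M m) le_top σ)
  rw [rs_self] at hc
  exact ⟨φ.left.appLE U W h c, resTop_funX φ M hF he hc W h⟩

/-- The point with coordinate one over a point. -/
theorem exists_point_one {U : Y.left.Opens} (hU : IsAffineOpen U) {e : Γ(M, U)} (he : IsFrame M U e)
    {W : X.left.Opens} (hW : IsAffineOpen W) (h : W ≤ φ.left ⁻¹ᵁ U) {x : X.left} (hx : x ∈ W) :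
    ∃ v : (tspace φ M).left, (toX φ M).left v = x ∧ v ∈ (tspace φ M).left.basicOpen (coordX φ M e W h) := by
  have hc := isFibreCoord φ M hU he W h W hW le_rfl
  have hres : GLinSh.res (toX φ M) (le_refl W) (coordX φ M e W h) = coordX φ M e W h := coordX_res φ M e h le_rfl
  rw [hres] at hc
  let E := RingEquiv.ofBijective _ hc
  let ev : Γ(X.left, W) →+* X.left.residueField x :=
    (X.left.residue x).hom.comp (X.left.presheaf.germ W x hx).hom
  let ψ : Γ((tspace φ M).left, (toX φ M).left ⁻¹ᵁ W) ⟶ X.left.residueField x :=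
    CommRingCat.ofHom ((Polynomial.eval₂RingHom ev 1).comp E.symm.toRingHom)
  have hWp : IsAffineOpen ((toX φ M).left ⁻¹ᵁ W) := hW.preimage _
  obtain ⟨z⟩ : Nonempty (Spec (X.left.residueField x)) := inferInstance
  have hψc : (toX φ M).left.app W ≫ ψ = X.left.presheaf.germ W x hx ≫ X.left.residue x := by
    refine CommRingCat.hom_ext (RingHom.ext fun r => ?_)
    show Polynomial.eval₂ ev 1 (E.symm ((toX φ M).left.app W r)) = _
    have : E.symm ((toX φ M).left.app W r) = Polynomial.C r := E.injective (by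
      rw [E.apply_symm_apply]; exact (Polynomial.eval₂_C _ _).symm)
    rw [this, Polynomial.eval₂_C]
    rfl
  have hψy : ψ (coordX φ M e W h) = 1 := by
    show Polynomial.eval₂ ev 1 (E.symm (coordX φ M e W h)) = _
    have : E.symm (coordX φ M e W h) = Polynomial.X := E.injective (by
      rw [E.apply_symm_apply]; exact (Polynomial.eval₂_X _ _).symm)
    rw [this, Polynomial.eval₂_X]
  refine ⟨hWp.fromSpec (Spec.map ψ z), ?_, ?_⟩
  · rw [← Scheme.Hom.comp_apply, ← IsAffineOpen.SpecMap_appLE_fromSpec (toX φ M).left hW hWp le_rfl,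
      ← Scheme.Hom.comp_apply, ← Category.assoc, ← Spec.map_comp, ← Scheme.Hom.app_eq_appLE, hψc, Spec.map_comp,
      Category.assoc]
    show (Spec.map (X.left.residue x) ≫ Spec.map (X.left.presheaf.germ W x hx) ≫ hW.fromSpec) z = x
    rw [show Spec.map (X.left.presheaf.germ W x hx) ≫ hW.fromSpec = X.left.fromSpecStalk x from
      hW.fromSpecStalk_eq_fromSpecStalk hx]
    show (X.left.fromSpecResidueField x) z = x
    exact Scheme.fromSpecResidueField_apply x z
  · have : Spec.map ψ z ∈ hWp.fromSpec ⁻¹ᵁ (tspace φ M).left.basicOpen (coordX φ M e W h) := by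
      rw [hWp.fromSpec_preimage_basicOpen]
      show ψ.hom (coordX φ M e W h) ∉ z.asIdeal
      rw [hψy]
      exact fun h1 => z.isPrime.ne_top (z.asIdeal.eq_top_of_isUnit_mem h1 isUnit_one)
    exact this

variable {hM : PicF.IsInvertible M}

theorem nonvanishing_funX {m : ℕ} (s : Coh.structureModule Y.left ⟶ CohB1.tensorPow M m) (hM : PicF.IsInvertible M)
    {F : Γ(tot M, ⊤)}
    (hF : ∀ (U : Y.left.Opens) (e : Γ(M, U)), IsFrame M U e → ∀ c : Γ(Y.left, U),
      c • powSec M e m = rs (CohB1.tensorPow M m) le_top (Groth.L18.GenLoc.secOf s) →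
        ro le_top F = (proj M).app U c * coord M e ^ m) :
    GLinSh.nonvanishing (toX φ M) (funX φ M F) =
      ((φ.left ⁻¹ᵁ CohB1.genLocus _ s : X.left.Opens) : Set X.left) := by
  refine Set.Subset.antisymm ?_ fun x hx => ?_
  · rintro _ ⟨v, hv, rfl⟩
    have hv' : toTot φ M v ∈ (tot M).basicOpen F := by
      have := hv
      rwa [funX, ← Scheme.preimage_basicOpen_top] at this
    show φ.left ((toX φ M).left v) ∈ CohB1.genLocus _ s
    rw [← Scheme.Hom.comp_apply, toX_comp, Scheme.Hom.comp_apply]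
    exact proj_mem_genLocus M hM s hF hv'
  · obtain ⟨U, hU, e, hxU, hUle, he⟩ :=
      Groth.L18.SymInv.exists_affine_frame hM (φ.left x) (CohB1.genLocus _ s) hx
    obtain ⟨W, hW, hxW, hWle⟩ := exists_isAffineOpen_mem_and_subset (x := x) (U := φ.left ⁻¹ᵁ U) hxU
    obtain ⟨c, hc⟩ := (isFrame_powSec M he m).exists_coeff le_rfl
      (rs (CohB1.tensorPow M m) le_top (Groth.L18.GenLoc.secOf s))
    rw [rs_self] at hc
    obtain ⟨v, hv, hvy⟩ := exists_point_one φ M hU he hW hWle hxW
    have hcu : IsUnit c := by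
      have h1 := (Groth.L18.GenLoc.isFrame_genLocus s).mono hUle
      rw [rs_rs] at h1
      rw [← hc] at h1
      exact Groth.L18.Frame.isUnit_of_isFrame (isFrame_powSec M he m) h1
    refine ⟨v, ?_, hv⟩
    have h2 : v ∈ (tspace φ M).left.basicOpen (GLinSh.resTop (toX φ M) W (funX φ M F)) := by
      rw [resTop_funX φ M hF he hc W hWle, Scheme.basicOpen_mul]
      refine ⟨?_, ?_⟩
      · rw [Scheme.basicOpen_of_isUnit _ ((hcu.map (φ.left.appLE U W hWle).hom).map ((toX φ M).left.app W).hom)]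
        exact (tspace φ M).left.basicOpen_le _ hvy
      · show v ∈ (tspace φ M).left.basicOpen (coordX φ M e W hWle ^ m)
        rw [Scheme.mem_basicOpen _ _ v ((tspace φ M).left.basicOpen_le _ hvy), map_pow]
        exact ((Scheme.mem_basicOpen _ _ v ((tspace φ M).left.basicOpen_le _ hvy)).1 hvy).pow m
    rw [GLinSh.resTop, Scheme.basicOpen_res] at h2
    exact h2.2

/-- In a geometric quotient with separated base the orbits of geometric points are closed. -/
theorem closedOrbitsOn_of_isGeomQuot [Y.left.IsSeparated] (hq : GIT.IsGeomQuot a φ) (U : X.left.Opens) :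
    GLinSh.ClosedOrbitsOn a U := by
  intro Ω _ _ T _ f _
  refine IsClosed.preimage continuous_subtype_val ?_
  set α : (X ⊗ T).left ⟶ Y.left := (fst X T).left ≫ φ.left with hα
  set β : (X ⊗ T).left ⟶ Y.left := ((snd X T).left ≫ f.left) ≫ φ.left with hβ
  suffices h : Set.range (GIT.psi a f).left.base = Set.range (equalizer.ι α β).base by
    rw [h]
    exact (equalizer.ι α β).isClosedEmbedding.isClosed_range
  apply subset_antisymm
  · rintro _ ⟨p, rfl⟩
    have hw : (GIT.psi a f).left ≫ α = (GIT.psi a f).left ≫ β := by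
      simp only [hα, hβ, ← Category.assoc, ← Over.comp_left, GIT.psi, lift_fst, lift_snd]
      rw [Category.assoc, hq.inv, whiskerLeft_snd_assoc, Category.assoc]
    exact ⟨(Limits.equalizer.lift (GIT.psi a f).left hw).base p, by
      rw [← Scheme.Hom.comp_apply, Limits.equalizer.lift_ι]⟩
  · rintro _ ⟨z, rfl⟩
    set j := equalizer.ι α β with hj
    let xx : equalizer α β ⟶ pullback φ.left φ.left := pullback.lift (j ≫ (fst X T).left)
      (j ≫ (snd X T).left ≫ f.left) (by
        rw [Category.assoc, Category.assoc]; exact Limits.equalizer.condition α β)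
    obtain ⟨w, hw⟩ := hq.orbit (xx.base z)
    obtain ⟨p, -, hp2⟩ := Scheme.Pullback.exists_preimage_pullback (f := GIT.PsiY a φ hq.inv) (g := xx) w z hw
    let P : Over S := Over.mk (pullback.snd (GIT.PsiY a φ hq.inv) xx ≫ j ≫ (X ⊗ T).hom)
    let pXT : P ⟶ X ⊗ T := Over.homMk (pullback.snd (GIT.PsiY a φ hq.inv) xx ≫ j) (Category.assoc _ _ _)
    have hcond : pullback.fst (GIT.PsiY a φ hq.inv) xx ≫ GIT.PsiY a φ hq.inv =
        pullback.snd (GIT.PsiY a φ hq.inv) xx ≫ xx := Limits.pullback.condition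
    have h1 : pullback.fst (GIT.PsiY a φ hq.inv) xx ≫ a.act.left = (pXT ≫ fst X T).left := by
      have e1 : GIT.PsiY a φ hq.inv ≫ pullback.fst φ.left φ.left = a.act.left := Limits.pullback.lift_fst _ _ _
      have e2 : xx ≫ pullback.fst φ.left φ.left = j ≫ (fst X T).left := Limits.pullback.lift_fst _ _ _
      rw [← e1, reassoc_of% hcond, e2, Over.comp_left]
      exact (Category.assoc _ _ _).symm
    have h2 : pullback.fst (GIT.PsiY a φ hq.inv) xx ≫ (snd G X).left = (pXT ≫ snd X T ≫ f).left := by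
      have e1 : GIT.PsiY a φ hq.inv ≫ pullback.snd φ.left φ.left = (snd G X).left :=
        Limits.pullback.lift_snd _ _ _
      have e2 : xx ≫ pullback.snd φ.left φ.left = j ≫ (snd X T).left ≫ f.left := Limits.pullback.lift_snd _ _ _
      rw [← e1, reassoc_of% hcond, e2, Over.comp_left, Over.comp_left]
      exact (Category.assoc _ _ _).symm
    let gx : P ⟶ G ⊗ X := Over.homMk (pullback.fst (GIT.PsiY a φ hq.inv) xx) (by
      rw [← Over.w (snd G X), reassoc_of% h2]
      exact Over.w (pXT ≫ snd X T ≫ f))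
    have h1' : gx ≫ a.act = pXT ≫ fst X T := Over.OverMorphism.ext h1
    have h2' : gx ≫ snd G X = pXT ≫ snd X T ≫ f := Over.OverMorphism.ext h2
    have hψ : lift (gx ≫ fst G X) (pXT ≫ snd X T) ≫ GIT.psi a f = pXT := by
      refine CartesianMonoidalCategory.hom_ext _ _ ?_ ?_
      · rw [GIT.psi, Category.assoc, lift_fst, lift_whiskerLeft_assoc, Category.assoc, ← h2', lift_comp_fst_snd, h1']
      · rw [GIT.psi, Category.assoc, lift_snd, lift_snd]
    refine ⟨(lift (gx ≫ fst G X) (pXT ≫ snd X T)).left.base p, ?_⟩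
    rw [← Scheme.Hom.comp_apply, ← Over.comp_left, hψ]
    show (pullback.snd (GIT.PsiY a φ hq.inv) xx ≫ j).base p = _
    rw [Scheme.Hom.comp_apply, hp2]

include hφ in
theorem exists_bundle [IsAffineHom φ.left] (hA : CohB1.IsAmple M) :
    ∃ B : GLinSh.LinBun G a, B.ssLocus = Set.univ ∧ (GIT.IsGeomQuot a φ → B.sLocus = Set.univ) := by
  haveI := Groth.L18.Ample.isSeparated_of_affine_genLocus hA.1 hA.2.2
  refine ⟨bundle a φ M hφ hA.1, Set.eq_univ_of_forall fun x => ?_, fun hq => Set.eq_univ_of_forall fun x => ?_⟩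
  all_goals
    obtain ⟨n, s, hx, haff⟩ := hA.2.2 (φ.left x)
    obtain ⟨F, hF⟩ := exists_fun M hA.1 (Groth.L18.GenLoc.secOf s)
    have hnv := nonvanishing_funX φ M s hA.1 hF
  · exact ⟨n + 1, funX φ M F, by omega, ⟨hasWeight_funX φ M hF, isInvFn_funX a φ M hφ F⟩, hnv ▸ hx,
      φ.left ⁻¹ᵁ CohB1.genLocus _ s, hnv.symm, haff.preimage _⟩
  · exact ⟨n + 1, funX φ M F, by omega, ⟨hasWeight_funX φ M hF, isInvFn_funX a φ M hφ F⟩, hnv ▸ hx,
      φ.left ⁻¹ᵁ CohB1.genLocus _ s, hnv.symm, haff.preimage _, closedOrbitsOn_of_isGeomQuot a φ hq _⟩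

end Groth.L11.AffInv
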